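import Groth.Agent.Lib.Milnor.Finite
import Groth.Agent.Lib.Milnor.Glue
import Mathlib.RingTheory.Smooth.Fiber
import Mathlib.RingTheory.Etale.Basic
import Mathlib.RingTheory.Smooth.Flat
import Mathlib.RingTheory.Kaehler.TensorProduct
import Mathlib.LinearAlgebra.TensorProduct.RightExactness
import Mathlib.RingTheory.IsTensorProduct

/-!
# Properties of algebras over a fibre product of rings
-/

set_option autoImplicit false
set_option linter.all false
set_option backward.isDefEq.respectTransparency false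

universe u

open TensorProduct

namespace GrothLib.MilnorAlg10

open Groth.Agent

variable {B' B A' A : Type u} [CommRing B'] [CommRing B] [CommRing A'] [CommRing A]
  [Algebra B' B] [Algebra B' A'] [Algebra B A] [Algebra A' A] [Algebra B' A]
  [IsScalarTower B' B A] [IsScalarTower B' A' A]

theorem isPushout_pair (hsq : EtMil.IsFibreSquare B' B A' A)
    (D' D C' C : Type u) [CommRing D'] [CommRing D] [CommRing C'] [CommRing C]
    [Algebra D' D] [Algebra D' C'] [Algebra D C] [Algebra C' C] [Algebra D' C] [IsScalarTower D' D C]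
    [IsScalarTower D' C' C] (hsq' : EtMil.IsFibreSquare D' D C' C)
    [Algebra B' D'] [Algebra B D] [Algebra A' C'] [Algebra A C]
    [Algebra B' D] [IsScalarTower B' B D] [IsScalarTower B' D' D]
    [Algebra B' C'] [IsScalarTower B' A' C'] [IsScalarTower B' D' C']
    [Algebra B C] [IsScalarTower B A C] [IsScalarTower B D C]
    [Algebra A' C] [IsScalarTower A' A C] [IsScalarTower A' C' C]
    [Algebra.IsPushout B A D C] [Algebra.IsPushout A' A C' C] :
    Algebra.IsPushout B' B D' D ∧ Algebra.IsPushout B' A' D' C' := by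
  have hS := Milnor.sq_of_isFibreSquare hsq
  let e₁ := Algebra.IsPushout.equiv B A D C
  let e₂ := Algebra.IsPushout.equiv A' A C' C
  let φ : A ⊗[B] D ≃ₗ[A] A ⊗[A'] C' := e₁.toLinearEquiv.trans e₂.symm.toLinearEquiv
  have hmem : ∀ x : D × C', x ∈ EtMil.glue B' φ ↔ algebraMap D C x.1 = algebraMap C' C x.2 := fun x => by
    show φ ((1 : A) ⊗ₜ[B] x.1) = (1 : A) ⊗ₜ[A'] x.2 ↔ _
    rw [← Algebra.IsPushout.equiv_symm_algebraMap_right (R := A') (S := A) (R' := C') (S' := C) x.2]
    show e₂.symm (e₁ ((1 : A) ⊗ₜ[B] x.1)) = e₂.symm (algebraMap C' C x.2) ↔ _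
    rw [EquivLike.apply_eq_iff_eq, Algebra.IsPushout.equiv_tmul, map_one, one_mul]
  let ψ : D' →ₗ[B'] EtMil.glue B' φ :=
    ((IsScalarTower.toAlgHom B' D' D).toLinearMap.prod (IsScalarTower.toAlgHom B' D' C').toLinearMap).codRestrict _
      fun r => (hmem _).2 (by
        show algebraMap D C (algebraMap D' D r) = algebraMap C' C (algebraMap D' C' r)
        rw [← IsScalarTower.algebraMap_apply, ← IsScalarTower.algebraMap_apply])
  have hψ : Function.Bijective ψ := by
    refine ⟨fun r s hrs => ?_, fun x => ?_⟩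
    · have h := congrArg Subtype.val hrs
      exact Milnor.eq_of_pair hsq' (congrArg Prod.fst h) (congrArg Prod.snd h)
    · obtain ⟨r, ⟨h₁, h₂⟩, -⟩ := hsq'.2 _ _ ((hmem _).1 x.2)
      exact ⟨r, Subtype.ext (Prod.ext h₁ h₂)⟩
  let e : D' ≃ₗ[B'] EtMil.glue B' φ := LinearEquiv.ofBijective ψ hψ
  have b₁ : Function.Bijective ((IsScalarTower.toAlgHom B' D' D).toLinearMap.liftBaseChange B) := by
    have h : (IsScalarTower.toAlgHom B' D' D).toLinearMap.liftBaseChange B =
        (EtMil.glueFst B' φ).liftBaseChange B ∘ₗ e.toLinearMap.baseChange B :=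
      TensorProduct.AlgebraTensorModule.ext fun a r => by simp [e, ψ, EtMil.glueFst]
    rw [h, LinearMap.coe_comp]
    exact (Milnor.bijective_liftBaseChange_fst (φ := φ) hS).comp (e.baseChange B' B D' _).bijective
  have b₂ : Function.Bijective ((IsScalarTower.toAlgHom B' D' C').toLinearMap.liftBaseChange A') := by
    have h : (IsScalarTower.toAlgHom B' D' C').toLinearMap.liftBaseChange A' =
        (EtMil.glueSnd B' φ).liftBaseChange A' ∘ₗ e.toLinearMap.baseChange A' :=
      TensorProduct.AlgebraTensorModule.ext fun a r => by simp [e, ψ, EtMil.glueSnd]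
    rw [h, LinearMap.coe_comp]
    exact (Milnor.bijective_liftBaseChange_snd (φ := φ) hS).comp (e.baseChange B' A' D' _).bijective
  exact ⟨⟨IsBaseChange.of_equiv (LinearEquiv.ofBijective _ b₁) fun r => by simp⟩,
    ⟨IsBaseChange.of_equiv (LinearEquiv.ofBijective _ b₂) fun r => by simp⟩⟩

variable {L : Type u} [CommRing L] [Algebra B' L]

theorem exists_finset_gen (X : Type u) [CommRing X] [Algebra B' X] [Algebra.FiniteType X (X ⊗[B'] L)] :
    ∃ s : Finset L, ∀ S : Subalgebra B' L, (s : Set L) ⊆ S →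
      Function.Surjective (S.val.toLinearMap.lTensor X) := by
  classical
  have hgen : ∀ z : X ⊗[B'] L, ∃ s : Finset L, ∀ S : Subalgebra B' L, (s : Set L) ⊆ S →
      z ∈ (Algebra.TensorProduct.map (AlgHom.id X X) S.val).range := by
    intro z
    induction z with
    | zero => exact ⟨∅, fun S _ => zero_mem _⟩
    | tmul x l => exact ⟨{l}, fun S hS => ⟨x ⊗ₜ ⟨l, hS (by simp)⟩, by simp⟩⟩
    | add a b ha hb =>
      obtain ⟨s, hs⟩ := ha
      obtain ⟨t, ht⟩ := hb
      exact ⟨s ∪ t, fun S hS => add_mem (hs S fun x hx => hS (by simp_all)) (ht S fun x hx => hS (by simp_all))⟩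
  choose g hg using hgen
  obtain ⟨T, hT⟩ := (Algebra.FiniteType.out : (⊤ : Subalgebra X (X ⊗[B'] L)).FG)
  refine ⟨T.biUnion g, fun S hS z => ?_⟩
  have hz : z ∈ (Algebra.TensorProduct.map (AlgHom.id X X) S.val).range := by
    have : Algebra.adjoin X (T : Set (X ⊗[B'] L)) ≤ (Algebra.TensorProduct.map (AlgHom.id X X) S.val).range :=
      Algebra.adjoin_le fun t ht => hg t S fun x hx => hS (Finset.mem_biUnion.2 ⟨t, ht, hx⟩)
    exact this (hT ▸ Algebra.mem_top)
  obtain ⟨w, rfl⟩ := hz
  exact ⟨w, rfl⟩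

theorem finiteType_of_pair (hsq : EtMil.IsFibreSquare B' B A' A) [Algebra.FiniteType B (B ⊗[B'] L)]
    [Algebra.FiniteType A' (A' ⊗[B'] L)] : Algebra.FiniteType B' L := by
  classical
  obtain ⟨s, hs⟩ := exists_finset_gen (B' := B') (L := L) B
  obtain ⟨t, ht⟩ := exists_finset_gen (B' := B') (L := L) A'
  let S : Subalgebra B' L := Algebra.adjoin B' ((s ∪ t : Finset L) : Set L)
  have h := Milnor.surjective_of_pair hsq S.val.toLinearMap
    (hs S fun x hx => Algebra.subset_adjoin (Finset.mem_union_left _ hx))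
    (ht S fun x hx => Algebra.subset_adjoin (Finset.mem_union_right _ hx))
  refine ⟨⟨s ∪ t, eq_top_iff.2 fun l _ => ?_⟩⟩
  obtain ⟨⟨x, hx⟩, rfl⟩ := h l
  exact hx

theorem exists_fg_sub {P : Type u} [CommRing P] [Algebra B' P] (π : P →ₐ[B'] L) (hπ : Function.Surjective π)
    [Module.Flat B' L] (X : Type u) [CommRing X] [Algebra B' X]
    [Algebra.FinitePresentation X (X ⊗[B'] P)] [Algebra.FinitePresentation X (X ⊗[B'] L)] :
    ∃ s : Finset P, (s : Set P) ⊆ RingHom.ker π ∧ ∀ J : Ideal P, (s : Set P) ⊆ J → (hJ : J ≤ RingHom.ker π) →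
      Function.Surjective (((Submodule.inclusion hJ).restrictScalars B').lTensor X) := by
  classical
  let I : Ideal P := RingHom.ker π
  let f : X ⊗[B'] P →ₐ[X] X ⊗[B'] L := Algebra.TensorProduct.map (AlgHom.id X X) π
  have hf : Function.Surjective f := LinearMap.lTensor_surjective X hπ
  have hfg : (RingHom.ker f.toRingHom).FG := Algebra.FinitePresentation.ker_fG_of_surjective f hf
  let ι := (Algebra.TensorProduct.includeRight : P →ₐ[B'] X ⊗[B'] P)
  have hker : RingHom.ker f.toRingHom = I.map ι := Algebra.TensorProduct.lTensor_ker π hπ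
  rw [hker, Ideal.map] at hfg
  obtain ⟨s', hs', hspan⟩ := (Submodule.fg_span_iff_fg_span_finset_subset _).1 hfg
  obtain ⟨s, hsI, rfl⟩ := Finset.subset_set_image_iff.1 hs'
  refine ⟨s, hsI, fun J hsJ hJ => ?_⟩
  have hrange : ∀ K : Ideal P, ((K.map ι).restrictScalars B' : Set (X ⊗[B'] P)) =
      Set.range ((K.subtype.restrictScalars B').lTensor X) := fun K => by
    rw [Ideal.map_includeRight_eq]; rfl
  have hinj : Function.Injective (((I.subtype).restrictScalars B').lTensor X) :=
    LinearMap.lTensor_injective_of_exact_of_flat π.toLinearMap hπ _ Subtype.val_injective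
      (fun p => ⟨fun hp => ⟨⟨p, hp⟩, rfl⟩, by rintro ⟨q, rfl⟩; exact q.2⟩) X
  intro z
  have h1 : (I.subtype.restrictScalars B').lTensor X z ∈ ((J.map ι).restrictScalars B' : Set (X ⊗[B'] P)) := by
    have h2 : (I.subtype.restrictScalars B').lTensor X z ∈ ((I.map ι).restrictScalars B' : Set (X ⊗[B'] P)) := by
      rw [hrange]; exact ⟨z, rfl⟩
    refine (show I.map ι ≤ J.map ι from ?_) h2
    show Ideal.span (ι '' (I : Set _)) ≤ _
    refine le_trans (le_of_eq (show Ideal.span (ι '' (I : Set _)) = _ from hspan)) ?_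
    refine Ideal.span_le.2 ?_
    intro y hy
    obtain ⟨p, hp, rfl⟩ := Finset.mem_image.1 (Finset.mem_coe.1 hy)
    exact Ideal.mem_map_of_mem ι (hsJ hp)
  rw [hrange] at h1
  obtain ⟨w, hw⟩ := h1
  refine ⟨w, hinj ?_⟩
  rw [← LinearMap.lTensor_comp_apply, ← hw]
  rfl

theorem finitePresentation_of_pair (hsq : EtMil.IsFibreSquare B' B A' A) [Module.Flat B' L]
    [Algebra.FinitePresentation B (B ⊗[B'] L)] [Algebra.FinitePresentation A' (A' ⊗[B'] L)] :
    Algebra.FinitePresentation B' L := by
  classical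
  haveI : Algebra.FiniteType B' L := finiteType_of_pair hsq
  obtain ⟨n, π, hπ⟩ := Algebra.FiniteType.iff_quotient_mvPolynomial''.1 ‹Algebra.FiniteType B' L›
  obtain ⟨s, hsI, hs⟩ := exists_fg_sub π hπ B
  obtain ⟨t, htI, ht⟩ := exists_fg_sub π hπ A'
  let J : Ideal (MvPolynomial (Fin n) B') := Ideal.span ((s ∪ t : Finset _) : Set _)
  have hJ : J ≤ RingHom.ker π := Ideal.span_le.2 (by
    rw [Finset.coe_union]; exact Set.union_subset hsI htI)
  have h := Milnor.surjective_of_pair hsq ((Submodule.inclusion hJ).restrictScalars B')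
    (hs J (fun x hx => Ideal.subset_span (Finset.mem_union_left _ hx)) hJ)
    (ht J (fun x hx => Ideal.subset_span (Finset.mem_union_right _ hx)) hJ)
  refine Algebra.FinitePresentation.of_surjective (f := π) hπ ⟨s ∪ t, le_antisymm hJ fun p hp => ?_⟩
  obtain ⟨⟨q, hq⟩, e⟩ := h ⟨p, hp⟩
  have : q = p := congrArg Subtype.val e
  exact this ▸ hq

/-- A field algebra over the fibre product comes from one of the two rings. -/
theorem exists_lift_field (hsq : EtMil.IsFibreSquare B' B A' A) (κ : Type u) [Field κ] [Algebra B' κ] :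
    (∃ σ : B →+* κ, σ.comp (algebraMap B' B) = algebraMap B' κ) ∨
      ∃ σ : A' →+* κ, σ.comp (algebraMap B' A') = algebraMap B' κ := by
  have hS := Milnor.sq_of_isFibreSquare hsq
  by_cases h : ∀ j, algebraMap B' B j = 0 → algebraMap B' κ j = 0
  · refine Or.inl ⟨(algebraMap B' B).liftOfRightInverse (Function.surjInv hS.surjL)
      (Function.rightInverse_surjInv hS.surjL) ⟨algebraMap B' κ, fun j hj => h j hj⟩, ?_⟩
    exact RingHom.liftOfRightInverse_comp _ _ _ _
  · push Not at h
    obtain ⟨j, hj, hj0⟩ := h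
    obtain ⟨μ, hμB, hμA, hμ1⟩ := Milnor.exists_mulMap (A := A) (A' := A') hsq hj
    have hadd : ∀ a b, μ (a + b) = μ a + μ b := map_add μ
    have hmul : ∀ a b, μ (a * b) * j = μ a * μ b := fun a b => by
      refine Milnor.eq_of_pair hsq ?_ ?_
      · simp [hμB, hj]
      · simp only [map_mul, hμA]; ring
    refine Or.inr ⟨{
      toFun := fun a => algebraMap B' κ (μ a) / algebraMap B' κ j
      map_one' := by rw [hμ1, div_self hj0]
      map_mul' := fun a b => by
        have h1 := congrArg (algebraMap B' κ) (hmul a b)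
        simp only [map_mul] at h1
        rw [div_mul_div_comm, ← h1, mul_div_mul_right _ _ hj0]
      map_zero' := by rw [map_zero, map_zero, zero_div]
      map_add' := fun a b => by rw [hadd, map_add, add_div] }, RingHom.ext fun c => ?_⟩
    show algebraMap B' κ (μ (algebraMap B' A' c)) / algebraMap B' κ j = algebraMap B' κ c
    have : μ (algebraMap B' A' c) = c * j := by
      refine Milnor.eq_of_pair hsq ?_ ?_
      · rw [hμB, map_mul, hj, mul_zero]
      · rw [hμA, map_mul, mul_comm]
    rw [this, map_mul, mul_div_assoc, div_self hj0, mul_one]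

theorem formallySmooth_fibre (X : Type u) [CommRing X] [Algebra B' X] [Algebra.Smooth X (X ⊗[B'] L)]
    (κ : Type u) [Field κ] [Algebra B' κ] [Algebra X κ] [IsScalarTower B' X κ] :
    Algebra.FormallySmooth κ (κ ⊗[B'] L) := by
  haveI : Algebra.FormallySmooth X (X ⊗[B'] L) := Algebra.Smooth.formallySmooth
  haveI : Algebra.FormallySmooth κ (κ ⊗[X] (X ⊗[B'] L)) := inferInstance
  exact .of_equiv (Algebra.TensorProduct.cancelBaseChange B' X κ κ L)

theorem smooth_of_pair (hsq : EtMil.IsFibreSquare B' B A' A) [Algebra.Smooth B (B ⊗[B'] L)]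
    [Algebra.Smooth A' (A' ⊗[B'] L)] : Algebra.Smooth B' L := by
  haveI : Module.Flat B (B ⊗[B'] L) := inferInstance
  haveI : Module.Flat A' (A' ⊗[B'] L) := inferInstance
  haveI : Module.Flat B' L := Milnor.flat_of_pair hsq
  haveI : Algebra.FinitePresentation B (B ⊗[B'] L) := Algebra.Smooth.finitePresentation
  haveI : Algebra.FinitePresentation A' (A' ⊗[B'] L) := Algebra.Smooth.finitePresentation
  haveI : Algebra.FinitePresentation B' L := finitePresentation_of_pair hsq
  refine Algebra.Smooth.of_formallySmooth_fiber fun I _ => ?_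
  rcases exists_lift_field hsq I.ResidueField with ⟨σ, hσ⟩ | ⟨σ, hσ⟩
  · letI := σ.toAlgebra
    haveI : IsScalarTower B' B I.ResidueField := IsScalarTower.of_algebraMap_eq' hσ.symm
    exact formallySmooth_fibre (L := L) B I.ResidueField
  · letI := σ.toAlgebra
    haveI : IsScalarTower B' A' I.ResidueField := IsScalarTower.of_algebraMap_eq' hσ.symm
    exact formallySmooth_fibre (L := L) A' I.ResidueField

theorem etale_of_pair (hsq : EtMil.IsFibreSquare B' B A' A)
    {D C' : Type u} [CommRing D] [CommRing C'] [Algebra B D] [Algebra A' C'] [Algebra L D] [Algebra L C']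
    [Algebra B' D] [IsScalarTower B' B D] [IsScalarTower B' L D]
    [Algebra B' C'] [IsScalarTower B' A' C'] [IsScalarTower B' L C']
    [Algebra.IsPushout B' B L D] [Algebra.IsPushout B' A' L C'] [Algebra.Etale B D] [Algebra.Etale A' C'] :
    Algebra.Etale B' L := by
  haveI : Algebra.Smooth B (B ⊗[B'] L) := .of_equiv (Algebra.IsPushout.equiv B' B L D).symm
  haveI : Algebra.Smooth A' (A' ⊗[B'] L) := .of_equiv (Algebra.IsPushout.equiv B' A' L C').symm
  haveI := smooth_of_pair (L := L) hsq
  haveI : Subsingleton (B ⊗[B'] Ω[L⁄B']) := (KaehlerDifferential.tensorKaehlerEquivBase B' B L D).toEquiv.subsingleton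
  haveI : Subsingleton (A' ⊗[B'] Ω[L⁄B']) := (KaehlerDifferential.tensorKaehlerEquivBase B' A' L C').toEquiv.subsingleton
  haveI : Subsingleton Ω[L⁄B'] := Milnor.subsingleton_of_pair hsq
  haveI : Algebra.FormallyUnramified B' L := ⟨inferInstance⟩
  exact Algebra.Etale.iff_formallyUnramified_and_smooth.2 ⟨inferInstance, inferInstance⟩

end GrothLib.MilnorAlg10
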